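import Mathlib
import Cfsg.Agent.Lib.Helper5.SLnBN2

set_option autoImplicit false

/-!
The symplectic group `Sp_{2(n+1)}(F)`: the Witt ordering of the index set, the formula for the
entries of an inverse, the upper triangular subgroup and the monomial subgroup.
-/

namespace Cfsg.Agent.Lib.Helper5.SpBN

open Matrix Cfsg.Agent.Lib.Helper5.SLnBN

/-- The index set. -/
abbrev Idx (n : ℕ) := Fin (n + 1) ⊕ Fin (n + 1)

/-- The symplectic group of rank `n + 1`. -/
abbrev SpG (n : ℕ) (F : Type*) [Field F] := ↥(Matrix.symplecticGroup (Fin (n + 1)) F)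

section
variable {n : ℕ}

/-- The Witt ordering: `e_0 < ... < e_n < f_n < ... < f_0`. -/
def rk : Idx n → ℕ
  | Sum.inl i => i.val
  | Sum.inr i => 2 * n + 1 - i.val

/-- The pairing `e_i ↔ f_i`. -/
def th : Equiv.Perm (Idx n) := Equiv.sumComm _ _

@[simp] theorem th_inl (i : Fin (n + 1)) : th (Sum.inl i : Idx n) = Sum.inr i := rfl
@[simp] theorem th_inr (i : Fin (n + 1)) : th (Sum.inr i : Idx n) = Sum.inl i := rfl
@[simp] theorem rk_inl (i : Fin (n + 1)) : rk (Sum.inl i : Idx n) = i.val := rfl
@[simp] theorem rk_inr (i : Fin (n + 1)) : rk (Sum.inr i : Idx n) = 2 * n + 1 - i.val := rfl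

theorem th_th (a : Idx n) : th (th a) = a := by
  rcases a with i | i <;> rfl

theorem th_ne (a : Idx n) : th a ≠ a := by
  rcases a with i | i <;> simp

theorem rk_lt (a : Idx n) : rk a < 2 * n + 2 := by
  rcases a with i | i
  · have := i.2
    simp only [rk_inl]
    omega
  · simp only [rk_inr]
    omega

theorem rk_th (a : Idx n) : rk (th a) = 2 * n + 1 - rk a := by
  rcases a with i | i
  · simp
  · have := i.2
    simp only [th_inr, rk_inl, rk_inr]
    omega

theorem rk_injective : Function.Injective (rk : Idx n → ℕ) := by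
  intro a b h
  rcases a with i | i <;> rcases b with j | j
  · simp only [rk_inl] at h
    rw [Fin.ext h]
  · have := i.2
    have := j.2
    simp only [rk_inl, rk_inr] at h
    omega
  · have := i.2
    have := j.2
    simp only [rk_inl, rk_inr] at h
    omega
  · have := i.2
    have := j.2
    simp only [rk_inr] at h
    have : i.val = j.val := by omega
    rw [Fin.ext this]

theorem rk_th_lt {a b : Idx n} (h : rk a < rk b) : rk (th b) < rk (th a) := by
  have := rk_lt b
  rw [rk_th, rk_th]
  omega

/-- A permutation that does not increase the rank is the identity. -/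
theorem perm_eq_one_of_rk_le (σ : Equiv.Perm (Idx n)) (h : ∀ a, rk (σ a) ≤ rk a) : σ = 1 := by
  ext a
  have key : ∀ m : ℕ, ∀ a : Idx n, rk a = m → σ a = a := by
    intro m
    induction m using Nat.strong_induction_on with
    | _ m ih =>
      intro a ha
      rcases (h a).lt_or_eq with hlt | heq
      · exfalso
        have h1 : σ (σ a) = σ a := ih (rk (σ a)) (by rw [← ha]; exact hlt) (σ a) rfl
        have h2 := σ.injective h1
        rw [h2] at hlt
        exact lt_irrefl _ hlt
      · exact rk_injective heq
  rw [key (rk a) a rfl]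
  rfl

end

section
variable {n : ℕ} {F : Type*} [Field F]

/-- The signs of the symplectic form. -/
def eps : Idx n → F
  | Sum.inl _ => 1
  | Sum.inr _ => -1

theorem eps_mul_self (a : Idx n) : (eps a : F) * eps a = 1 := by
  rcases a with i | i <;> simp [eps]

theorem eps_ne_zero (a : Idx n) : (eps a : F) ≠ 0 := by
  rcases a with i | i <;> simp [eps]

/-- The entries of the inverse of a symplectic matrix. -/
theorem inv_apply (g : SpG n F) (a b : Idx n) :
    ((g⁻¹ : SpG n F) : Matrix (Idx n) (Idx n) F) a b
      = eps a * eps b * (g : Matrix (Idx n) (Idx n) F) (th b) (th a) := by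
  rw [SymplecticGroup.coe_inv]
  have h : (g : Matrix (Idx n) (Idx n) F) = fromBlocks (g : Matrix (Idx n) (Idx n) F).toBlocks₁₁
      (g : Matrix (Idx n) (Idx n) F).toBlocks₁₂ (g : Matrix (Idx n) (Idx n) F).toBlocks₂₁
      (g : Matrix (Idx n) (Idx n) F).toBlocks₂₂ := (fromBlocks_toBlocks _).symm
  rw [h]
  unfold Matrix.J
  rw [fromBlocks_transpose, fromBlocks_neg, fromBlocks_multiply, fromBlocks_multiply]
  rcases a with i | i <;> rcases b with j | j <;>
    simp [eps, toBlocks₁₁, toBlocks₁₂, toBlocks₂₁, toBlocks₂₂]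

theorem coe_mul' (g h : SpG n F) :
    ((g * h : SpG n F) : Matrix (Idx n) (Idx n) F)
      = (g : Matrix (Idx n) (Idx n) F) * (h : Matrix (Idx n) (Idx n) F) := rfl

theorem coe_one' : ((1 : SpG n F) : Matrix (Idx n) (Idx n) F) = 1 := rfl

theorem inv_mul_coe (g : SpG n F) :
    ((g⁻¹ : SpG n F) : Matrix (Idx n) (Idx n) F) * (g : Matrix (Idx n) (Idx n) F) = 1 := by
  rw [← coe_mul', inv_mul_cancel, coe_one']

theorem mul_inv_coe (g : SpG n F) :
    (g : Matrix (Idx n) (Idx n) F) * ((g⁻¹ : SpG n F) : Matrix (Idx n) (Idx n) F) = 1 := by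
  rw [← coe_mul', mul_inv_cancel, coe_one']

/-- The diagonal of a product of triangular matrices. -/
theorem tri_mul_diag {M N : Matrix (Idx n) (Idx n) F} (hM : M.BlockTriangular rk)
    (hN : N.BlockTriangular rk) (a : Idx n) : (M * N) a a = M a a * N a a := by
  rw [Matrix.mul_apply, Finset.sum_eq_single a]
  · intro c _ hc
    rcases lt_or_gt_of_ne (fun e => hc (rk_injective e)) with h | h
    · rw [hM h, zero_mul]
    · rw [hN h, mul_zero]
  · intro h
    exact absurd (Finset.mem_univ _) h

/-- The entry of a product of triangular matrices just above the diagonal. -/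
theorem tri_mul_super {M N : Matrix (Idx n) (Idx n) F} (hM : M.BlockTriangular rk)
    (hN : N.BlockTriangular rk) {a b : Idx n} (hab : rk b = rk a + 1) :
    (M * N) a b = M a a * N a b + M a b * N b b := by
  have hne : a ≠ b := by
    intro e
    rw [e] at hab
    omega
  rw [Matrix.mul_apply, Finset.sum_eq_add a b hne]
  · intro c _ hc
    have h1 : rk c ≠ rk a := fun e => hc.1 (rk_injective e)
    have h2 : rk c ≠ rk b := fun e => hc.2 (rk_injective e)
    by_cases h : rk c < rk a
    · rw [hM h, zero_mul]
    · have h' : rk b < rk c := by omega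
      rw [hN h', mul_zero]
  · intro h
    exact absurd (Finset.mem_univ _) h
  · intro h
    exact absurd (Finset.mem_univ _) h

/-- The upper triangular subgroup. -/
def borel (n : ℕ) (F : Type*) [Field F] : Subgroup (SpG n F) where
  carrier := {g | (g : Matrix (Idx n) (Idx n) F).BlockTriangular rk}
  mul_mem' := by
    intro g h hg hh
    exact Matrix.BlockTriangular.mul hg hh
  one_mem' := Matrix.blockTriangular_one
  inv_mem' := by
    intro g hg a b hab
    rw [inv_apply, hg (rk_th_lt hab), mul_zero]

theorem mem_borel (g : SpG n F) :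
    g ∈ borel n F ↔ (g : Matrix (Idx n) (Idx n) F).BlockTriangular rk := Iff.rfl

theorem borel_apply {g : SpG n F} (hg : g ∈ borel n F) {a b : Idx n} (h : rk b < rk a) :
    (g : Matrix (Idx n) (Idx n) F) a b = 0 := hg h

theorem borel_diag_mul_inv {g : SpG n F} (hg : g ∈ borel n F) (a : Idx n) :
    (g : Matrix (Idx n) (Idx n) F) a a * ((g⁻¹ : SpG n F) : Matrix (Idx n) (Idx n) F) a a = 1 := by
  rw [← tri_mul_diag hg ((borel n F).inv_mem hg), mul_inv_coe, Matrix.one_apply_eq]

theorem borel_diag_ne_zero {g : SpG n F} (hg : g ∈ borel n F) (a : Idx n) :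
    (g : Matrix (Idx n) (Idx n) F) a a ≠ 0 := by
  intro h
  have := borel_diag_mul_inv hg a
  rw [h, zero_mul] at this
  exact zero_ne_one this

/-- The diagonal entries of an upper triangular symplectic matrix at paired indices are inverse to
each other. -/
theorem borel_diag_mul_th {g : SpG n F} (hg : g ∈ borel n F) (a : Idx n) :
    (g : Matrix (Idx n) (Idx n) F) a a * (g : Matrix (Idx n) (Idx n) F) (th a) (th a) = 1 := by
  have := borel_diag_mul_inv hg a
  rw [inv_apply, eps_mul_self, one_mul] at this
  exact this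

/-- If an entry just above the diagonal vanishes, so does the mirrored entry. -/
theorem borel_super_zero {g : SpG n F} (hg : g ∈ borel n F) {a b : Idx n} (hab : rk b = rk a + 1)
    (h0 : (g : Matrix (Idx n) (Idx n) F) a b = 0) :
    (g : Matrix (Idx n) (Idx n) F) (th b) (th a) = 0 := by
  have h1 := tri_mul_super hg ((borel n F).inv_mem hg) hab
  rw [mul_inv_coe, h0, zero_mul, add_zero, Matrix.one_apply_ne] at h1
  · have h2 : ((g⁻¹ : SpG n F) : Matrix (Idx n) (Idx n) F) a b = 0 := by
      rcases mul_eq_zero.1 h1.symm with h | h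
      · exact absurd h (borel_diag_ne_zero hg a)
      · exact h
    rw [inv_apply] at h2
    rcases mul_eq_zero.1 h2 with h | h
    · exact absurd h (mul_ne_zero (eps_ne_zero a) (eps_ne_zero b))
    · exact h
  · intro e
    rw [e] at hab
    omega

end

end Cfsg.Agent.Lib.Helper5.SpBN
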