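import Mathlib
import Cfsg.Agent.Lib.Helper5.SLnBN5
import Cfsg.Agent.Lib.Helper5.SpBN.Mono

set_option autoImplicit false

/-!
Root data in the symplectic group: a homomorphism `SL₂(F) → Sp` attached to a simple root,
and the double coset condition derived from it.
-/

namespace Cfsg.Agent.Lib.Helper5.SpBN

open Matrix Cfsg.Agent.Lib.Helper5.PSL2Aut DoubleCoset

section
variable {n : ℕ} {F : Type*} [Field F]

/-- The data attached to a simple root. -/
structure RootData (n : ℕ) (F : Type*) [Field F] where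
  /-- the rank one subgroup -/
  ψ : SpecialLinearGroup (Fin 2) F →* SpG n F
  /-- the row of the root -/
  a : Idx n
  /-- the column of the root -/
  b : Idx n
  /-- the permutation of the reflection -/
  τ : Equiv.Perm (Idx n)
  rk_b : rk b = rk a + 1
  x_supp : ∀ (c : F) (k l : Idx n), k ≠ l → ¬(k = a ∧ l = b) → ¬(k = th b ∧ l = th a) →
    (ψ (xm c) : Matrix (Idx n) (Idx n) F) k l = 0
  y_supp : ∀ (c : F) (k l : Idx n), k ≠ l → ¬(k = b ∧ l = a) → ¬(k = th a ∧ l = th b) →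
    (ψ (ym c) : Matrix (Idx n) (Idx n) F) k l = 0
  x_ab : ∀ c : F, (ψ (xm c) : Matrix (Idx n) (Idx n) F) a b = c
  x_diag : ∀ (c : F) (k : Idx n), (ψ (xm c) : Matrix (Idx n) (Idx n) F) k k = 1
  upper : ∀ M : SpecialLinearGroup (Fin 2) F, (M : Matrix (Fin 2) (Fin 2) F) 1 0 = 0 →
    ψ M ∈ borel n F
  mono : SLnBN.IsMono (ψ (wm 1) : Matrix (Idx n) (Idx n) F) τ
  τ_comm : ∀ k, τ (th k) = th (τ k)
  τ_a : τ a = b
  τ_b : τ b = a
  inv_pairs : ∀ k l, rk k < rk l → rk (τ l) < rk (τ k) → (k = a ∧ l = b) ∨ (k = th b ∧ l = th a)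

namespace RootData

variable (R : RootData n F)

/-- The reflection. -/
def s : SpG n F := R.ψ (wm 1)

/-- The positive root elements. -/
def x (c : F) : SpG n F := R.ψ (xm c)

/-- The negative root elements. -/
def y (c : F) : SpG n F := R.ψ (ym c)

theorem a_ne_b : R.a ≠ R.b := by
  intro e
  have := R.rk_b
  rw [e] at this
  omega

theorem x_mem_borel (c : F) : R.x c ∈ borel n F := R.upper _ (by
  unfold xm
  rw [mk2_coe]
  rfl)

theorem x_mem_unip (c : F) : R.x c ∈ unip n F := ⟨R.x_mem_borel c, R.x_diag c⟩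

theorem x_zero : R.x 0 = 1 := by
  unfold x
  rw [xm_zero, map_one]

theorem x_mul_neg (c : F) : R.x c * R.x (-c) = 1 := by
  unfold x
  rw [← map_mul, ← xm_add, add_neg_cancel, xm_zero, map_one]

theorem s_mono : SLnBN.IsMono (R.s : Matrix (Idx n) (Idx n) F) R.τ := R.mono

theorem s_mem_mono : R.s ∈ SpBN.mono n F := ⟨R.τ, R.mono, R.τ_comm⟩

theorem s_inv_mono : SLnBN.IsMono ((R.s⁻¹ : SpG n F) : Matrix (Idx n) (Idx n) F) R.τ⁻¹ :=
  mono_inv R.mono R.τ_comm

theorem s_sq_mem_borel : R.s * R.s ∈ borel n F := by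
  unfold s
  rw [← map_mul, SLnBN.wm_one_sq]
  apply R.upper
  rw [mk2_coe]
  rfl

/-- Splitting off a root element. -/
theorem exists_split {g : SpG n F} (hg : g ∈ borel n F) :
    ∃ (c : F) (g' : SpG n F), g' ∈ borel n F ∧
      (g' : Matrix (Idx n) (Idx n) F) R.a R.b = 0 ∧ g = g' * R.x c := by
  have hne := borel_diag_ne_zero hg R.a
  set c : F := (g : Matrix (Idx n) (Idx n) F) R.a R.b / (g : Matrix (Idx n) (Idx n) F) R.a R.a
    with hc
  refine ⟨c, g * R.x (-c), (borel n F).mul_mem hg (R.x_mem_borel _), ?_, ?_⟩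
  · rw [coe_mul', Matrix.mul_apply, Finset.sum_eq_add R.a R.b R.a_ne_b]
    · have h1 : (R.x (-c) : Matrix (Idx n) (Idx n) F) R.a R.b = -c := R.x_ab (-c)
      have h2 : (R.x (-c) : Matrix (Idx n) (Idx n) F) R.b R.b = 1 := R.x_diag (-c) R.b
      rw [h1, h2, hc]
      field_simp
      ring
    · intro d _ hd
      have : (R.x (-c) : Matrix (Idx n) (Idx n) F) d R.b = 0 := by
        apply R.x_supp (-c) d R.b hd.2
        · exact fun h => hd.1 h.1
        · rintro ⟨h1, h2⟩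
          apply hd.1
          rw [h1, h2, th_th]
      rw [this, mul_zero]
    · intro h
      exact absurd (Finset.mem_univ _) h
    · intro h
      exact absurd (Finset.mem_univ _) h
  · rw [mul_assoc]
    have : R.x (-c) * R.x c = 1 := by
      have := R.x_mul_neg (-c)
      rwa [neg_neg] at this
    rw [this, mul_one]

/-- Conjugation by the reflection preserves the elements of the Borel subgroup with vanishing
entry at the root. -/
theorem s_conj_mem_borel {g : SpG n F} (hg : g ∈ borel n F)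
    (h0 : (g : Matrix (Idx n) (Idx n) F) R.a R.b = 0) : R.s * g * R.s⁻¹ ∈ borel n F := by
  intro k' l' hlk
  obtain ⟨k, rfl⟩ : ∃ k, R.τ k = k' := ⟨R.τ⁻¹ k', by simp⟩
  obtain ⟨l, rfl⟩ : ∃ l, R.τ l = l' := ⟨R.τ⁻¹ l', by simp⟩
  rw [coe_mul', coe_mul', SLnBN.IsMono.conj_apply R.s_mono R.s_inv_mono]
  have hz : (g : Matrix (Idx n) (Idx n) F) k l = 0 := by
    rcases lt_trichotomy (rk l) (rk k) with h | h | h
    · exact hg h
    · rw [rk_injective h] at hlk
      exact absurd hlk (lt_irrefl _)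
    · rcases R.inv_pairs k l h hlk with ⟨rfl, rfl⟩ | ⟨rfl, rfl⟩
      · exact h0
      · exact borel_super_zero hg R.rk_b h0
  rw [hz, mul_zero, zero_mul]

/-- Conjugating an element supported at a root by a monomial element. -/
theorem conj_supp_mem_borel {g : SpG n F} {σ : Equiv.Perm (Idx n)}
    (hσ : SLnBN.IsMono (g : Matrix (Idx n) (Idx n) F) σ) (hσc : ∀ a, σ (th a) = th (σ a))
    (z : SpG n F) (p q : Idx n)
    (hz : ∀ k l : Idx n, k ≠ l → ¬(k = p ∧ l = q) → ¬(k = th q ∧ l = th p) →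
      (z : Matrix (Idx n) (Idx n) F) k l = 0)
    (hpq : rk (σ⁻¹ p) < rk (σ⁻¹ q)) : g⁻¹ * z * g ∈ borel n F := by
  intro k' l' hlk
  obtain ⟨k, rfl⟩ : ∃ k, σ⁻¹ k = k' := ⟨σ k', by simp⟩
  obtain ⟨l, rfl⟩ : ∃ l, σ⁻¹ l = l' := ⟨σ l', by simp⟩
  have h1 : SLnBN.IsMono ((g⁻¹ : SpG n F) : Matrix (Idx n) (Idx n) F) σ⁻¹ := mono_inv hσ hσc
  have h2 : SLnBN.IsMono (g : Matrix (Idx n) (Idx n) F) (σ⁻¹)⁻¹ := by rwa [inv_inv]
  rw [coe_mul', coe_mul', SLnBN.IsMono.conj_apply h1 h2]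
  have hz0 : (z : Matrix (Idx n) (Idx n) F) k l = 0 := by
    apply hz
    · intro e
      rw [e] at hlk
      exact lt_irrefl _ hlk
    · rintro ⟨rfl, rfl⟩
      exact lt_asymm hpq hlk
    · rintro ⟨rfl, rfl⟩
      rw [perm_inv_comm hσc, perm_inv_comm hσc] at hlk
      have := rk_th_lt hlk
      rw [th_th, th_th] at this
      exact lt_asymm hpq this
  rw [hz0, mul_zero, zero_mul]

theorem conj_x_mem_borel {g : SpG n F} {σ : Equiv.Perm (Idx n)}
    (hσ : SLnBN.IsMono (g : Matrix (Idx n) (Idx n) F) σ) (hσc : ∀ a, σ (th a) = th (σ a))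
    (h : rk (σ⁻¹ R.a) < rk (σ⁻¹ R.b)) (c : F) : g⁻¹ * R.x c * g ∈ borel n F :=
  conj_supp_mem_borel hσ hσc (R.x c) R.a R.b (R.x_supp c) h

theorem conj_y_mem_borel {g : SpG n F} {σ : Equiv.Perm (Idx n)}
    (hσ : SLnBN.IsMono (g : Matrix (Idx n) (Idx n) F) σ) (hσc : ∀ a, σ (th a) = th (σ a))
    (h : rk (σ⁻¹ R.b) < rk (σ⁻¹ R.a)) (c : F) : g⁻¹ * R.y c * g ∈ borel n F :=
  conj_supp_mem_borel hσ hσc (R.y c) R.b R.a (R.y_supp c) h

/-- The rank one relation. -/
theorem s_mul_x (c : F) (hc : c ≠ 0) :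
    R.s * R.x c = R.ψ (SLnBN.bmat c hc) * R.y c⁻¹ := by
  unfold s x y
  rw [← map_mul, ← map_mul, SLnBN.wm_one_mul_xm c hc]

theorem bmat_mem_borel (c : F) (hc : c ≠ 0) : R.ψ (SLnBN.bmat c hc) ∈ borel n F := by
  apply R.upper
  unfold SLnBN.bmat
  rw [mk2_coe]
  rfl

/-- The double coset condition. -/
theorem s_mul_mem_union {g b : SpG n F} (hg : g ∈ SpBN.mono n F) (hb : b ∈ borel n F) :
    R.s * b * g ∈ doubleCoset (R.s * g) (borel n F : Set _) (borel n F)
      ∪ doubleCoset g (borel n F : Set _) (borel n F) := by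
  obtain ⟨σ, hσ, hσc⟩ := hg
  obtain ⟨c, b', hb', hb'0, rfl⟩ := R.exists_split hb
  have h4 := R.s_conj_mem_borel hb' hb'0
  have hne : σ⁻¹ R.a ≠ σ⁻¹ R.b := fun e => R.a_ne_b (σ⁻¹.injective e)
  rcases lt_or_gt_of_ne (fun e => hne (rk_injective e)) with hlt | hgt
  · left
    rw [mem_doubleCoset]
    refine ⟨R.s * b' * R.s⁻¹, h4, g⁻¹ * R.x c * g, R.conj_x_mem_borel hσ hσc hlt c, ?_⟩
    group
  · by_cases hc : c = 0
    · left
      rw [hc, R.x_zero, mul_one, mem_doubleCoset]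
      refine ⟨R.s * b' * R.s⁻¹, h4, 1, Subgroup.one_mem _, ?_⟩
      group
    · right
      rw [mem_doubleCoset]
      refine ⟨R.s * b' * R.s⁻¹ * R.ψ (SLnBN.bmat c hc),
        Subgroup.mul_mem _ h4 (R.bmat_mem_borel c hc), g⁻¹ * R.y c⁻¹ * g,
        R.conj_y_mem_borel hσ hσc hgt c⁻¹, ?_⟩
      have e := R.s_mul_x c hc
      have e' : R.s * (b' * R.x c) * g = R.s * b' * R.s⁻¹ * (R.s * R.x c) * g := by group
      rw [e', e]
      group

/-- The conjugate of a positive root element by the reflection is not upper triangular. -/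
theorem s_conj_x_not_mem : R.s * R.x 1 * R.s⁻¹ ∉ borel n F := by
  intro h
  have h1 : rk (R.τ R.b) < rk (R.τ R.a) := by
    rw [R.τ_a, R.τ_b, R.rk_b]
    exact Nat.lt_succ_self _
  have h2 := h h1
  rw [coe_mul', coe_mul', SLnBN.IsMono.conj_apply R.s_mono R.s_inv_mono] at h2
  have h3 : (R.x 1 : Matrix (Idx n) (Idx n) F) R.a R.b = 1 := R.x_ab 1
  have h4 := mono_apply_ne_zero R.s_mono R.a
  have h5 := mono_apply_ne_zero R.s_inv_mono (R.τ R.b)
  have e5 : R.τ⁻¹ (R.τ R.b) = R.b := by simp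
  rw [e5] at h5
  rw [h3, mul_one] at h2
  rcases mul_eq_zero.1 h2 with h | h
  · exact h4 h
  · exact h5 h

/-- The reflection does not normalize the Borel subgroup. -/
theorem s_conj_ne :
    (fun b : SpG n F => R.s * b * R.s) '' (borel n F : Set (SpG n F))
      ≠ (borel n F : Set (SpG n F)) := by
  intro h
  have h1 : R.s * R.x 1 * R.s ∈ (borel n F : Set (SpG n F)) := by
    rw [← h]
    exact ⟨_, R.x_mem_borel 1, rfl⟩
  apply R.s_conj_x_not_mem
  have e : R.s * R.x 1 * R.s⁻¹ = R.s * R.x 1 * R.s * (R.s * R.s)⁻¹ := by group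
  rw [e]
  exact Subgroup.mul_mem _ h1 (Subgroup.inv_mem _ R.s_sq_mem_borel)

/-- The negative root elements lie in the double coset of the reflection. -/
theorem y_mem_doubleCoset : R.y 1 ∈ doubleCoset R.s (borel n F : Set (SpG n F)) (borel n F) := by
  have e := R.s_mul_x 1 one_ne_zero
  rw [inv_one] at e
  rw [mem_doubleCoset]
  refine ⟨(R.ψ (SLnBN.bmat 1 one_ne_zero))⁻¹, Subgroup.inv_mem _ (R.bmat_mem_borel 1 one_ne_zero),
    R.x 1, R.x_mem_borel 1, ?_⟩
  rw [mul_assoc, e]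
  group

end RootData

end

end Cfsg.Agent.Lib.Helper5.SpBN
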