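import Mathlib
import Cfsg.Agent.Lib.Helper5.SLnBN5
import Cfsg.Agent.Lib.Helper5.SpBN.Root

set_option autoImplicit false

/-!
The block diagonal embedding `SL_{n+1}(F) → Sp_{2(n+1)}(F)` and the root data of the short simple
roots.
-/

namespace Cfsg.Agent.Lib.Helper5.SpBN

open Matrix Cfsg.Agent.Lib.Helper5.PSL2Aut

section
variable {n : ℕ} {F : Type*} [Field F]

theorem sl_inv_mul_coe (A : SpecialLinearGroup (Fin (n + 1)) F) :
    ((A⁻¹ : SpecialLinearGroup (Fin (n + 1)) F) : Matrix (Fin (n + 1)) (Fin (n + 1)) F)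
      * (A : Matrix (Fin (n + 1)) (Fin (n + 1)) F) = 1 := by
  rw [← Matrix.SpecialLinearGroup.coe_mul, inv_mul_cancel, Matrix.SpecialLinearGroup.coe_one]

/-- The block diagonal embedding as a function. -/
def deltaFun (A : SpecialLinearGroup (Fin (n + 1)) F) : SpG n F :=
  ⟨fromBlocks (A : Matrix (Fin (n + 1)) (Fin (n + 1)) F) 0 0
    ((A⁻¹ : SpecialLinearGroup (Fin (n + 1)) F) : Matrix (Fin (n + 1)) (Fin (n + 1)) F)ᵀ, by
    rw [SymplecticGroup.fromBlocks_mem_iff]
    refine ⟨by simp, by simp, ?_⟩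
    rw [Matrix.transpose_zero, Matrix.zero_mul, sub_zero, ← Matrix.transpose_mul, sl_inv_mul_coe,
      Matrix.transpose_one]⟩

theorem deltaFun_coe (A : SpecialLinearGroup (Fin (n + 1)) F) :
    ((deltaFun A : SpG n F) : Matrix (Idx n) (Idx n) F)
      = fromBlocks (A : Matrix (Fin (n + 1)) (Fin (n + 1)) F) 0 0
        ((A⁻¹ : SpecialLinearGroup (Fin (n + 1)) F) : Matrix (Fin (n + 1)) (Fin (n + 1)) F)ᵀ :=
  rfl

/-- The block diagonal embedding. -/
def delta : SpecialLinearGroup (Fin (n + 1)) F →* SpG n F where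
  toFun := deltaFun
  map_one' := by
    apply Subtype.ext
    rw [deltaFun_coe, inv_one, Matrix.SpecialLinearGroup.coe_one, Matrix.transpose_one,
      Matrix.fromBlocks_one]
    rfl
  map_mul' A B := by
    apply Subtype.ext
    rw [coe_mul', deltaFun_coe, deltaFun_coe, deltaFun_coe, Matrix.fromBlocks_multiply, _root_.mul_inv_rev,
      Matrix.SpecialLinearGroup.coe_mul, Matrix.SpecialLinearGroup.coe_mul, Matrix.transpose_mul]
    simp

theorem delta_coe (A : SpecialLinearGroup (Fin (n + 1)) F) :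
    ((delta A : SpG n F) : Matrix (Idx n) (Idx n) F)
      = fromBlocks (A : Matrix (Fin (n + 1)) (Fin (n + 1)) F) 0 0
        ((A⁻¹ : SpecialLinearGroup (Fin (n + 1)) F) : Matrix (Fin (n + 1)) (Fin (n + 1)) F)ᵀ :=
  rfl

theorem delta_inl_inl (A : SpecialLinearGroup (Fin (n + 1)) F) (i j : Fin (n + 1)) :
    ((delta A : SpG n F) : Matrix (Idx n) (Idx n) F) (Sum.inl i) (Sum.inl j)
      = (A : Matrix (Fin (n + 1)) (Fin (n + 1)) F) i j := rfl

theorem delta_inr_inr (A : SpecialLinearGroup (Fin (n + 1)) F) (i j : Fin (n + 1)) :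
    ((delta A : SpG n F) : Matrix (Idx n) (Idx n) F) (Sum.inr i) (Sum.inr j)
      = ((A⁻¹ : SpecialLinearGroup (Fin (n + 1)) F) : Matrix (Fin (n + 1)) (Fin (n + 1)) F) j i :=
  rfl

theorem delta_inl_inr (A : SpecialLinearGroup (Fin (n + 1)) F) (i j : Fin (n + 1)) :
    ((delta A : SpG n F) : Matrix (Idx n) (Idx n) F) (Sum.inl i) (Sum.inr j) = 0 := rfl

theorem delta_inr_inl (A : SpecialLinearGroup (Fin (n + 1)) F) (i j : Fin (n + 1)) :
    ((delta A : SpG n F) : Matrix (Idx n) (Idx n) F) (Sum.inr i) (Sum.inl j) = 0 := rfl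

theorem delta_mem_borel {A : SpecialLinearGroup (Fin (n + 1)) F} (hA : A ∈ SLnBN.borel (n + 1) F) :
    delta A ∈ borel n F := by
  have hA' := (SLnBN.borel (n + 1) F).inv_mem hA
  intro a b hab
  rcases a with i | i <;> rcases b with j | j
  · rw [delta_inl_inl]
    exact hA i j (by simpa using hab)
  · exfalso
    have := i.2
    have := j.2
    simp only [rk_inl, rk_inr] at hab
    omega
  · rfl
  · rw [delta_inr_inr]
    apply hA' j i
    have := i.2
    have := j.2
    simp only [rk_inr] at hab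
    rw [Fin.lt_def]
    omega

theorem delta_isMono {A : SpecialLinearGroup (Fin (n + 1)) F} {σ : Equiv.Perm (Fin (n + 1))}
    (hA : SLnBN.IsMono (A : Matrix (Fin (n + 1)) (Fin (n + 1)) F) σ) :
    SLnBN.IsMono ((delta A : SpG n F) : Matrix (Idx n) (Idx n) F) (Equiv.sumCongr σ σ) := by
  intro a b hab
  rcases a with i | i <;> rcases b with j | j
  · rw [delta_inl_inl]
    apply hA
    intro e
    apply hab
    rw [e]
    rfl
  · rfl
  · rfl
  · rw [delta_inr_inr]
    apply hA.inv
    intro e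
    apply hab
    rw [e]
    simp

theorem sumCongr_comm_th (σ : Equiv.Perm (Fin (n + 1))) (a : Idx n) :
    Equiv.sumCongr σ σ (th a) = th (Equiv.sumCongr σ σ a) := by
  rcases a with i | i <;> rfl

theorem delta_transvection_apply {i j : Fin (n + 1)} (hij : i ≠ j) (c : F) (k l : Idx n) :
    ((delta (SpecialLinearGroup.transvection hij c) : SpG n F) : Matrix (Idx n) (Idx n) F) k l
      = (if k = l then 1 else 0) + (if k = Sum.inl i ∧ l = Sum.inl j then c else 0)
        + (if k = Sum.inr j ∧ l = Sum.inr i then -c else 0) := by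
  rcases k with a | a <;> rcases l with b | b
  · rw [delta_inl_inl, SLnBN.transvection_apply]
    simp [eq_comm]
  · rw [delta_inl_inr]
    simp
  · rw [delta_inr_inl]
    simp
  · rw [delta_inr_inr, SpecialLinearGroup.transvection_inv, SLnBN.transvection_apply]
    simp [eq_comm, and_comm]

end

end Cfsg.Agent.Lib.Helper5.SpBN
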