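import Mathlib
import Cfsg.Agent.Lib.Helper5.SpBN.Root

set_option autoImplicit false

/-!
The rank one subgroup attached to a long root of the symplectic group, and the root data of the
long simple root.
-/

namespace Cfsg.Agent.Lib.Helper5.SpBN

open Matrix Cfsg.Agent.Lib.Helper5.PSL2Aut

section
variable {n : ℕ} {F : Type*} [Field F]

/-- A diagonal with one distinguished entry. -/
def dg (l : Fin (n + 1)) (p q : F) : Fin (n + 1) → F := fun k => if k = l then p else q

/-- The matrix of the long root subgroup. -/
def longMat (l : Fin (n + 1)) (M : Matrix (Fin 2) (Fin 2) F) : Matrix (Idx n) (Idx n) F :=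
  fromBlocks (diagonal (dg l (M 0 0) 1)) (diagonal (dg l (M 0 1) 0))
    (diagonal (dg l (M 1 0) 0)) (diagonal (dg l (M 1 1) 1))

theorem longMat_mem (l : Fin (n + 1)) (M : Matrix (Fin 2) (Fin 2) F) (hM : M.det = 1) :
    longMat l M ∈ Matrix.symplecticGroup (Fin (n + 1)) F := by
  rw [Matrix.det_fin_two] at hM
  unfold longMat
  rw [SymplecticGroup.fromBlocks_mem_iff]
  simp only [Matrix.diagonal_transpose, Matrix.diagonal_mul_diagonal]
  refine ⟨?_, ?_, ?_⟩
  · congr 1
    funext k
    exact mul_comm _ _
  · congr 1
    funext k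
    exact mul_comm _ _
  · rw [Matrix.diagonal_sub, ← Matrix.diagonal_one]
    congr 1
    funext k
    unfold dg
    by_cases hk : k = l
    · simp only [if_pos hk]
      linear_combination hM
    · simp only [if_neg hk]
      ring

theorem longMat_mul (l : Fin (n + 1)) (M M' : Matrix (Fin 2) (Fin 2) F) :
    longMat l M * longMat l M' = longMat l (M * M') := by
  unfold longMat
  rw [Matrix.fromBlocks_multiply]
  simp only [Matrix.diagonal_mul_diagonal, Matrix.diagonal_add]
  congr 1 <;>
  · congr 1
    funext k
    unfold dg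
    by_cases hk : k = l
    · simp only [if_pos hk, Matrix.mul_apply, Fin.sum_univ_two]
    · simp only [if_neg hk]
      ring

theorem longMat_one (l : Fin (n + 1)) : longMat l (1 : Matrix (Fin 2) (Fin 2) F) = 1 := by
  unfold longMat
  have h1 : dg l ((1 : Matrix (Fin 2) (Fin 2) F) 0 0) 1 = 1 := by
    funext k; unfold dg; simp
  have h2 : dg l ((1 : Matrix (Fin 2) (Fin 2) F) 0 1) 0 = 0 := by
    funext k; unfold dg; simp
  have h3 : dg l ((1 : Matrix (Fin 2) (Fin 2) F) 1 0) 0 = 0 := by
    funext k; unfold dg; simp
  have h4 : dg l ((1 : Matrix (Fin 2) (Fin 2) F) 1 1) 1 = 1 := by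
    funext k; unfold dg; simp
  rw [h1, h2, h3, h4, Matrix.diagonal_one', Matrix.diagonal_zero', Matrix.fromBlocks_one]

/-- The long root subgroup. -/
def longHom (l : Fin (n + 1)) : SpecialLinearGroup (Fin 2) F →* SpG n F where
  toFun M := ⟨longMat l (M : Matrix (Fin 2) (Fin 2) F), longMat_mem l _ M.2⟩
  map_one' := by
    apply Subtype.ext
    show longMat l ((1 : SpecialLinearGroup (Fin 2) F) : Matrix (Fin 2) (Fin 2) F) = 1
    rw [Matrix.SpecialLinearGroup.coe_one, longMat_one]
  map_mul' M M' := by
    apply Subtype.ext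
    show longMat l ((M * M' : SpecialLinearGroup (Fin 2) F) : Matrix (Fin 2) (Fin 2) F)
      = longMat l M * longMat l M'
    rw [Matrix.SpecialLinearGroup.coe_mul, longMat_mul]

theorem longHom_coe (l : Fin (n + 1)) (M : SpecialLinearGroup (Fin 2) F) :
    ((longHom l M : SpG n F) : Matrix (Idx n) (Idx n) F)
      = longMat l (M : Matrix (Fin 2) (Fin 2) F) := rfl

theorem longMat_inl_inl (l : Fin (n + 1)) (M : Matrix (Fin 2) (Fin 2) F) (i j : Fin (n + 1)) :
    longMat l M (Sum.inl i) (Sum.inl j) = if i = j then (if i = l then M 0 0 else 1) else 0 := by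
  unfold longMat dg
  rw [Matrix.fromBlocks_apply₁₁, Matrix.diagonal_apply]

theorem longMat_inl_inr (l : Fin (n + 1)) (M : Matrix (Fin 2) (Fin 2) F) (i j : Fin (n + 1)) :
    longMat l M (Sum.inl i) (Sum.inr j) = if i = j then (if i = l then M 0 1 else 0) else 0 := by
  unfold longMat dg
  rw [Matrix.fromBlocks_apply₁₂, Matrix.diagonal_apply]

theorem longMat_inr_inl (l : Fin (n + 1)) (M : Matrix (Fin 2) (Fin 2) F) (i j : Fin (n + 1)) :
    longMat l M (Sum.inr i) (Sum.inl j) = if i = j then (if i = l then M 1 0 else 0) else 0 := by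
  unfold longMat dg
  rw [Matrix.fromBlocks_apply₂₁, Matrix.diagonal_apply]

theorem longMat_inr_inr (l : Fin (n + 1)) (M : Matrix (Fin 2) (Fin 2) F) (i j : Fin (n + 1)) :
    longMat l M (Sum.inr i) (Sum.inr j) = if i = j then (if i = l then M 1 1 else 1) else 0 := by
  unfold longMat dg
  rw [Matrix.fromBlocks_apply₂₂, Matrix.diagonal_apply]

theorem xm_coe (c : F) : ((xm c : SpecialLinearGroup (Fin 2) F) : Matrix (Fin 2) (Fin 2) F)
    = !![1, c; 0, 1] := rfl

theorem ym_coe (c : F) : ((ym c : SpecialLinearGroup (Fin 2) F) : Matrix (Fin 2) (Fin 2) F)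
    = !![1, 0; c, 1] := rfl

theorem wm_one_coe : ((wm 1 : SpecialLinearGroup (Fin 2) F) : Matrix (Fin 2) (Fin 2) F)
    = !![0, 1; -1, 0] := by
  unfold wm
  rw [mk2_coe]
  simp

/-- The entries of a long root element. -/
theorem longHom_xm_apply (l : Fin (n + 1)) (c : F) (k k' : Idx n) :
    ((longHom l (xm c) : SpG n F) : Matrix (Idx n) (Idx n) F) k k'
      = (if k = k' then 1 else 0) + (if k = Sum.inl l ∧ k' = Sum.inr l then c else 0) := by
  rw [longHom_coe, xm_coe]
  rcases k with i | i <;> rcases k' with j | j
  · rw [longMat_inl_inl]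
    by_cases hij : i = j
    · subst hij
      simp
    · simp [hij]
  · rw [longMat_inl_inr]
    by_cases hij : i = j
    · subst hij
      by_cases hil : i = l
      · simp [hil]
      · simp [hil]
    · have : ¬(i = l ∧ j = l) := fun h => hij (h.1.trans h.2.symm)
      simp [hij, this]
  · rw [longMat_inr_inl]
    simp
  · rw [longMat_inr_inr]
    by_cases hij : i = j
    · subst hij
      simp
    · simp [hij]

/-- The entries of a negative long root element. -/
theorem longHom_ym_apply (l : Fin (n + 1)) (c : F) (k k' : Idx n) :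
    ((longHom l (ym c) : SpG n F) : Matrix (Idx n) (Idx n) F) k k'
      = (if k = k' then 1 else 0) + (if k = Sum.inr l ∧ k' = Sum.inl l then c else 0) := by
  rw [longHom_coe, ym_coe]
  rcases k with i | i <;> rcases k' with j | j
  · rw [longMat_inl_inl]
    by_cases hij : i = j
    · subst hij
      simp
    · simp [hij]
  · rw [longMat_inl_inr]
    simp
  · rw [longMat_inr_inl]
    by_cases hij : i = j
    · subst hij
      by_cases hil : i = l
      · simp [hil]
      · simp [hil]
    · have : ¬(i = l ∧ j = l) := fun h => hij (h.1.trans h.2.symm)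
      simp [hij, this]
  · rw [longMat_inr_inr]
    by_cases hij : i = j
    · subst hij
      simp
    · simp [hij]

theorem longHom_mem_borel_of_upper (l : Fin (n + 1)) (M : SpecialLinearGroup (Fin 2) F)
    (hM : (M : Matrix (Fin 2) (Fin 2) F) 1 0 = 0) : longHom l M ∈ borel n F := by
  intro a b hab
  rw [longHom_coe]
  rcases a with i | i <;> rcases b with j | j
  · rw [longMat_inl_inl, if_neg]
    intro e
    rw [e] at hab
    exact lt_irrefl _ hab
  · exfalso
    have := i.2
    have := j.2
    simp only [rk_inl, rk_inr] at hab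
    omega
  · rw [longMat_inr_inl, hM]
    simp
  · rw [longMat_inr_inr, if_neg]
    intro e
    rw [e] at hab
    exact lt_irrefl _ hab

theorem longHom_wm_isMono (l : Fin (n + 1)) :
    SLnBN.IsMono ((longHom l (wm 1) : SpG n F) : Matrix (Idx n) (Idx n) F)
      (Equiv.swap (Sum.inl l) (Sum.inr l)) := by
  intro a b hab
  rw [longHom_coe, wm_one_coe]
  rcases a with i | i <;> rcases b with j | j
  · rw [longMat_inl_inl]
    by_cases hij : i = j
    · subst hij
      by_cases hil : i = l
      · simp [hil]
      · exfalso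
        apply hab
        rw [Equiv.swap_apply_of_ne_of_ne]
        · simpa using hil
        · simp
    · simp [hij]
  · rw [longMat_inl_inr]
    by_cases hij : i = j
    · subst hij
      by_cases hil : i = l
      · exfalso
        apply hab
        rw [hil, Equiv.swap_apply_right]
      · simp [hil]
    · simp [hij]
  · rw [longMat_inr_inl]
    by_cases hij : i = j
    · subst hij
      by_cases hil : i = l
      · exfalso
        apply hab
        rw [hil, Equiv.swap_apply_left]
      · simp [hil]
    · simp [hij]
  · rw [longMat_inr_inr]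
    by_cases hij : i = j
    · subst hij
      by_cases hil : i = l
      · simp [hil]
      · exfalso
        apply hab
        rw [Equiv.swap_apply_of_ne_of_ne]
        · simp
        · simpa using hil
    · simp [hij]

theorem swap_pair_comm_th (l : Fin (n + 1)) (a : Idx n) :
    Equiv.swap (Sum.inl l) (Sum.inr l) (th a) = th (Equiv.swap (Sum.inl l : Idx n) (Sum.inr l) a) := by
  rcases a with i | i
  · by_cases hil : i = l
    · subst hil
      simp
    · rw [Equiv.swap_apply_of_ne_of_ne (a := Sum.inl l) (b := Sum.inr l) (x := Sum.inl i)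
        (by simpa using hil) (by simp), th_inl, Equiv.swap_apply_of_ne_of_ne (by simp)
        (by simpa using hil)]
  · by_cases hil : i = l
    · subst hil
      simp
    · rw [Equiv.swap_apply_of_ne_of_ne (a := Sum.inl l) (b := Sum.inr l) (x := Sum.inr i)
        (by simp) (by simpa using hil), th_inr, Equiv.swap_apply_of_ne_of_ne (by simpa using hil)
        (by simp)]

theorem rk_swap_last (a : Idx n) :
    rk (Equiv.swap (Sum.inl (Fin.last n) : Idx n) (Sum.inr (Fin.last n)) a)
      = if rk a = n then n + 1 else if rk a = n + 1 then n else rk a := by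
  rw [Equiv.swap_apply_def]
  have h1 : rk (Sum.inl (Fin.last n) : Idx n) = n := rfl
  have h2 : rk (Sum.inr (Fin.last n) : Idx n) = n + 1 := by
    simp only [rk_inr, Fin.val_last]
    omega
  by_cases e1 : a = Sum.inl (Fin.last n)
  · rw [if_pos e1, e1, h1, h2, if_pos rfl]
  · rw [if_neg e1]
    have e1' : rk a ≠ n := fun e => e1 (rk_injective (e.trans h1.symm))
    by_cases e2 : a = Sum.inr (Fin.last n)
    · rw [if_pos e2, e2, h1, h2, if_neg (by omega), if_pos rfl]
    · rw [if_neg e2]
      have e2' : rk a ≠ n + 1 := fun e => e2 (rk_injective (e.trans h2.symm))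
      rw [if_neg e1', if_neg e2']

/-- The root data of the long simple root. -/
def longData (n : ℕ) (F : Type*) [Field F] : RootData n F where
  ψ := longHom (Fin.last n)
  a := Sum.inl (Fin.last n)
  b := Sum.inr (Fin.last n)
  τ := Equiv.swap (Sum.inl (Fin.last n)) (Sum.inr (Fin.last n))
  rk_b := by
    simp only [rk_inl, rk_inr, Fin.val_last]
    omega
  x_supp := by
    intro c k l hkl h1 _
    rw [longHom_xm_apply, if_neg hkl, if_neg h1, add_zero]
  y_supp := by
    intro c k l hkl h1 _
    rw [longHom_ym_apply, if_neg hkl, if_neg h1, add_zero]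
  x_ab := by
    intro c
    rw [longHom_xm_apply]
    simp
  x_diag := by
    intro c k
    rw [longHom_xm_apply, if_pos rfl, if_neg, add_zero]
    rintro ⟨rfl, h⟩
    simp at h
  upper := longHom_mem_borel_of_upper _
  mono := longHom_wm_isMono _
  τ_comm := swap_pair_comm_th _
  τ_a := Equiv.swap_apply_left _ _
  τ_b := Equiv.swap_apply_right _ _
  inv_pairs := by
    intro k l hkl hlk
    left
    rw [rk_swap_last, rk_swap_last] at hlk
    have h1 : rk (Sum.inl (Fin.last n) : Idx n) = n := rfl
    have h2 : rk (Sum.inr (Fin.last n) : Idx n) = n + 1 := by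
      simp only [rk_inr, Fin.val_last]
      omega
    have h3 : rk k = n ∧ rk l = n + 1 := by
      split_ifs at hlk <;> omega
    exact ⟨rk_injective (h3.1.trans h1.symm), rk_injective (h3.2.trans h2.symm)⟩

end

end Cfsg.Agent.Lib.Helper5.SpBN
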