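import Mathlib
import Cfsg.Agent.Lib.Helper5.SpBN.Delta

set_option autoImplicit false

/-!
The root data of the short simple roots of the symplectic group.
-/

namespace Cfsg.Agent.Lib.Helper5.SpBN

open Matrix Cfsg.Agent.Lib.Helper5.PSL2Aut

section
variable {n : ℕ} {F : Type*} [Field F]

theorem swap_val (k : Fin n) (a : Fin (n + 1)) :
    (Equiv.swap k.castSucc k.succ a).val
      = if a.val = k.val then k.val + 1 else if a.val = k.val + 1 then k.val else a.val := by
  rw [Equiv.swap_apply_def]
  have h1 : (k.castSucc : Fin (n + 1)).val = k.val := rfl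
  have h2 : (k.succ : Fin (n + 1)).val = k.val + 1 := rfl
  split_ifs with e1 e2 e3 e4 e5 e6
  all_goals first
    | rfl
    | (exfalso; simp_all [Fin.ext_iff]; done)
    | (simp_all [Fin.ext_iff]; done)
    | (exfalso; simp_all [Fin.ext_iff]; omega)

theorem blockEmb_mem_borel_of_upper (k : Fin n) (M : SpecialLinearGroup (Fin 2) F)
    (hM : (M : Matrix (Fin 2) (Fin 2) F) 1 0 = 0) :
    SLnBN.blockEmb k.castSucc k.succ (SLnBN.castSucc_ne_succ k) M ∈ SLnBN.borel (n + 1) F := by
  obtain ⟨p, q, r, s, h, rfl⟩ := exists_mk2 M
  rw [mk2_coe] at hM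
  have hr : r = 0 := hM
  subst hr
  intro i j hij
  rw [SLnBN.blockEmb_coe, mk2_coe]
  exact SLnBN.blockMat_upper_triangular _ _ Fin.castSucc_lt_succ _ _ _ i j hij

/-- The root data of a short simple root. -/
def shortData (k : Fin n) : RootData n F where
  ψ := delta.comp (SLnBN.blockEmb k.castSucc k.succ (SLnBN.castSucc_ne_succ k))
  a := Sum.inl k.castSucc
  b := Sum.inl k.succ
  τ := Equiv.sumCongr (Equiv.swap k.castSucc k.succ) (Equiv.swap k.castSucc k.succ)
  rk_b := rfl
  x_supp := by
    intro c a b hab h1 h2
    rw [th_inl, th_inl] at h2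
    rw [MonoidHom.comp_apply, SLnBN.blockEmb_xm, delta_transvection_apply, if_neg hab, if_neg h1,
      if_neg h2]
    simp
  y_supp := by
    intro c a b hab h1 h2
    rw [th_inl, th_inl] at h2
    rw [MonoidHom.comp_apply, SLnBN.blockEmb_ym, delta_transvection_apply, if_neg hab, if_neg h1,
      if_neg h2]
    simp
  x_ab := by
    intro c
    rw [MonoidHom.comp_apply, SLnBN.blockEmb_xm, delta_transvection_apply]
    simp [(SLnBN.castSucc_ne_succ k)]
  x_diag := by
    intro c a
    rw [MonoidHom.comp_apply, SLnBN.blockEmb_xm, delta_transvection_apply]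
    have h := SLnBN.castSucc_ne_succ k
    rcases a with a | a
    · simp only [if_true, Sum.inl.injEq, reduceCtorEq, false_and, if_false, add_zero]
      rw [if_neg]
      · simp
      · rintro ⟨rfl, e⟩
        exact h e
    · simp only [if_true, Sum.inr.injEq, reduceCtorEq, false_and, if_false, add_zero]
      rw [if_neg]
      · simp
      · rintro ⟨rfl, e⟩
        exact h e.symm
  upper := by
    intro M hM
    rw [MonoidHom.comp_apply]
    exact delta_mem_borel (blockEmb_mem_borel_of_upper k M hM)
  mono := by
    rw [MonoidHom.comp_apply]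
    exact delta_isMono (SLnBN.sRef_isMono k)
  τ_comm := sumCongr_comm_th _
  τ_a := by simp
  τ_b := by simp
  inv_pairs := by
    intro a b hab hba
    rcases a with a | a <;> rcases b with b | b
    · left
      simp only [Equiv.sumCongr_apply, Sum.map_inl, rk_inl, swap_val] at hab hba
      have h1 : a.val = k.val ∧ b.val = k.val + 1 := by
        split_ifs at hba <;> omega
      exact ⟨congrArg Sum.inl (Fin.ext h1.1), congrArg Sum.inl (Fin.ext h1.2)⟩
    · exfalso
      have := a.2
      have := b.2
      have := k.2
      simp only [Equiv.sumCongr_apply, Sum.map_inl, Sum.map_inr, rk_inl, rk_inr, swap_val]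
        at hab hba
      split_ifs at hba <;> omega
    · exfalso
      have := a.2
      have := b.2
      have := k.2
      simp only [Equiv.sumCongr_apply, Sum.map_inl, Sum.map_inr, rk_inl, rk_inr, swap_val]
        at hab hba
      omega
    · right
      have := a.2
      have := b.2
      have := k.2
      simp only [Equiv.sumCongr_apply, Sum.map_inr, rk_inr, swap_val] at hab hba
      have h1 : a.val = k.val + 1 ∧ b.val = k.val := by
        split_ifs at hba <;> omega
      exact ⟨congrArg Sum.inr (Fin.ext h1.1), congrArg Sum.inr (Fin.ext h1.2)⟩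

end

end Cfsg.Agent.Lib.Helper5.SpBN
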