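import Mathlib
import Cfsg.Agent.Lib.Helper5.SpBN.Short
import Cfsg.Agent.Lib.Helper5.SpBN.Long

set_option autoImplicit false

/-!
The distinguished generators and the subgroup `N` of the symplectic group.
-/

namespace Cfsg.Agent.Lib.Helper5.SpBN

open Matrix Cfsg.Agent.Lib.Helper5.PSL2Aut

section
variable {n : ℕ} {F : Type*} [Field F]

/-- The root data indexed by the natural numbers: the short simple roots for `j < n`, the long
simple root otherwise. -/
def rootData (n : ℕ) (F : Type*) [Field F] (j : ℕ) : RootData n F :=
  if h : j < n then shortData ⟨j, h⟩ else longData n F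

theorem rootData_of_lt {j : ℕ} (h : j < n) : rootData n F j = shortData ⟨j, h⟩ := dif_pos h

theorem rootData_of_not_lt {j : ℕ} (h : ¬ j < n) : rootData n F j = longData n F := dif_neg h

/-- The distinguished generators. -/
def nrep (n : ℕ) (F : Type*) [Field F] (j : ℕ) : SpG n F := (rootData n F j).s

/-- The set of distinguished generators. -/
def genS (n : ℕ) (F : Type*) [Field F] : Set (SpG n F) := {s | ∃ j < n + 1, s = nrep n F j}

/-- The subgroup `N`. -/
def weylN (n : ℕ) (F : Type*) [Field F] : Subgroup (SpG n F) :=
  Subgroup.closure (genS n F) ⊔ torus n F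

theorem genS_subset_mono : genS n F ⊆ (mono n F : Set (SpG n F)) := by
  rintro _ ⟨j, _, rfl⟩
  exact (rootData n F j).s_mem_mono

theorem weylN_le_mono : weylN n F ≤ mono n F :=
  sup_le ((Subgroup.closure_le _).2 genS_subset_mono) torus_le_mono

theorem torus_le_weylN : torus n F ≤ weylN n F := le_sup_right

theorem genS_subset_weylN : genS n F ⊆ (weylN n F : Set (SpG n F)) :=
  fun _ h => Subgroup.mem_sup_left (Subgroup.subset_closure h)

theorem borel_inf_weylN : borel n F ⊓ weylN n F = torus n F := by
  apply le_antisymm
  · rw [← borel_inf_mono]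
    exact inf_le_inf_left _ weylN_le_mono
  · exact le_inf torus_le_borel torus_le_weylN

theorem shortData_τ_ne_long (k : Fin n) : (shortData (F := F) k).τ ≠ (longData n F).τ := by
  intro h
  have h1 := congrArg (fun σ : Equiv.Perm (Idx n) => σ (Sum.inl (Fin.last n))) h
  have h2 : (longData n F).τ (Sum.inl (Fin.last n)) = Sum.inr (Fin.last n) :=
    Equiv.swap_apply_left _ _
  have h3 : (shortData (F := F) k).τ (Sum.inl (Fin.last n))
      = Sum.inl (Equiv.swap k.castSucc k.succ (Fin.last n)) := rfl
  simp only [h2, h3] at h1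
  exact absurd h1 (by simp)

theorem shortData_τ_injective (k k' : Fin n)
    (h : (shortData (F := F) k).τ = (shortData (F := F) k').τ) : k = k' := by
  apply SLnBN.swap_adjacent_injective
  ext x
  have h1 := congrArg (fun σ : Equiv.Perm (Idx n) => σ (Sum.inl x)) h
  have h2 : (shortData (F := F) k).τ (Sum.inl x)
      = Sum.inl (Equiv.swap k.castSucc k.succ x) := rfl
  have h3 : (shortData (F := F) k').τ (Sum.inl x)
      = Sum.inl (Equiv.swap k'.castSucc k'.succ x) := rfl
  simp only [h2, h3] at h1
  rw [Sum.inl.injEq] at h1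
  rw [h1]

theorem rootData_τ_injective {j j' : ℕ} (hj : j < n + 1) (hj' : j' < n + 1)
    (h : (rootData n F j).τ = (rootData n F j').τ) : j = j' := by
  by_cases h1 : j < n
  · by_cases h2 : j' < n
    · rw [rootData_of_lt h1, rootData_of_lt h2] at h
      have := shortData_τ_injective _ _ h
      exact congrArg Fin.val this
    · rw [rootData_of_lt h1, rootData_of_not_lt h2] at h
      exact absurd h (shortData_τ_ne_long _)
  · by_cases h2 : j' < n
    · rw [rootData_of_not_lt h1, rootData_of_lt h2] at h
      exact absurd h.symm (shortData_τ_ne_long _)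
    · omega

/-- Distinct generators are distinct modulo the Borel subgroup. -/
theorem nrep_inj {j j' : ℕ} (hj : j < n + 1) (hj' : j' < n + 1)
    (h : (nrep n F j)⁻¹ * nrep n F j' ∈ borel n F) : j = j' := by
  have h1 : SLnBN.IsMono (((nrep n F j)⁻¹ * nrep n F j' : SpG n F) : Matrix (Idx n) (Idx n) F)
      ((rootData n F j).τ⁻¹ * (rootData n F j').τ) := by
    rw [coe_mul']
    exact ((rootData n F j).s_inv_mono).mul (rootData n F j').s_mono
  have h2 := perm_eq_one_of_borel h h1
  rw [inv_mul_eq_one] at h2
  exact rootData_τ_injective hj hj' h2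

end

end Cfsg.Agent.Lib.Helper5.SpBN
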