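import Mathlib
import Cfsg.Agent.Lib.Helper9.SpMax1
import Cfsg.Agent.Lib.Helper5.SpBN.Weyl

set_option autoImplicit false

/-!
The symplectic group is generated by its upper triangular subgroup and the subgroup `N`.
-/

namespace Cfsg.Agent.Lib.Helper5.SpBN

open Matrix Cfsg.Agent.H9SpMax Cfsg.Agent.Lib.Helper1.SpBasic Cfsg.Agent.Lib.Helper2.Symp

section
variable {n : ℕ} {F : Type*} [Field F]

/-- The action of a monomial matrix on a vector. -/
theorem mono_mulVec_apply {g : Matrix (Idx n) (Idx n) F} {σ : Equiv.Perm (Idx n)}
    (hg : SLnBN.IsMono g σ) (v : Idx n → F) (a : Idx n) :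
    (g *ᵥ v) a = g a (σ⁻¹ a) * v (σ⁻¹ a) := by
  rw [Matrix.mulVec, dotProduct, Finset.sum_eq_single (σ⁻¹ a)]
  · intro b _ hb
    rw [hg a b (fun e => hb (by rw [e]; simp)), zero_mul]
  · intro h
    exact absurd (Finset.mem_univ _) h

/-- The transvections along vectors of the first half are upper triangular. -/
theorem T_mem_borel (u : Idx n → F) (hu : ∀ i, u (Sum.inr i) = 0) (c : F) :
    (T u c : SpG n F) ∈ borel n F := by
  intro a b hab
  have hne : a ≠ b := by
    intro e
    rw [e] at hab
    exact lt_irrefl _ hab
  rw [T_coe]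
  unfold Cfsg.sympTransvection
  rw [Matrix.add_apply, Matrix.smul_apply, Matrix.vecMulVec_apply, Matrix.one_apply_ne hne,
    zero_add]
  rcases a with i | i <;> rcases b with j | j
  · rw [J_mulVec_apply_inl, hu]
    simp
  · exfalso
    have := i.2
    have := j.2
    simp only [rk_inl, rk_inr] at hab
    omega
  · rw [J_mulVec_apply_inl, hu]
    simp
  · rw [hu]
    simp

/-- For every index there is a product of distinguished generators interchanging the two
vectors of the corresponding hyperbolic pair. -/
theorem exists_flip (j : Fin (n + 1)) :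
    ∃ g ∈ Subgroup.closure (genS n F),
      SLnBN.IsMono (g : Matrix (Idx n) (Idx n) F) (Equiv.swap (Sum.inl j) (Sum.inr j)) := by
  induction j using Fin.reverseInduction with
  | last =>
    refine ⟨nrep n F n, Subgroup.subset_closure ⟨n, Nat.lt_succ_self n, rfl⟩, ?_⟩
    unfold nrep
    rw [rootData_of_not_lt (lt_irrefl n)]
    exact (longData n F).s_mono
  | cast k ih =>
    obtain ⟨g, hg, hgm⟩ := ih
    have hk : nrep n F k.val = (shortData k).s := by
      unfold nrep
      rw [rootData_of_lt k.2]
    have hs : (shortData (F := F) k).s ∈ Subgroup.closure (genS n F) := by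
      rw [← hk]
      exact Subgroup.subset_closure ⟨k.val, by have := k.2; omega, rfl⟩
    refine ⟨(shortData k).s * g * ((shortData k).s)⁻¹,
      Subgroup.mul_mem _ (Subgroup.mul_mem _ hs hg) (Subgroup.inv_mem _ hs), ?_⟩
    have h1 := ((shortData (F := F) k).s_mono.mul hgm).mul (shortData (F := F) k).s_inv_mono
    rw [← Equiv.swap_apply_apply] at h1
    have e1 : (shortData (F := F) k).τ (Sum.inl k.succ) = Sum.inl k.castSucc :=
      (shortData (F := F) k).τ_b
    have e2 : (shortData (F := F) k).τ (Sum.inr k.succ) = Sum.inr k.castSucc := by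
      have := (shortData (F := F) k).τ_comm (Sum.inl k.succ)
      rw [th_inl, e1, th_inl] at this
      exact this
    rw [e1, e2] at h1
    exact h1

/-- Vectors supported on a coordinate Lagrangian are directions of the subgroup generated by
`B` and `N`. -/
theorem mem_dirSet_of_supp (I : Finset (Fin (n + 1))) :
    ∀ v : Idx n → F, (∀ i ∈ I, v (Sum.inl i) = 0) → (∀ i, i ∉ I → v (Sum.inr i) = 0) →
      v ∈ dirSet (borel n F ⊔ weylN n F) := by
  induction I using Finset.induction_on with
  | empty =>
    intro v _ h2 c
    exact Subgroup.mem_sup_left (T_mem_borel v (fun i => h2 i (Finset.notMem_empty i)) c)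
  | insert j I hj ih =>
    intro v h1 h2
    obtain ⟨g, hg, hgm⟩ := exists_flip (F := F) j
    have hgH : g ∈ borel n F ⊔ weylN n F :=
      Subgroup.mem_sup_right (Subgroup.mem_sup_left hg)
    have hginv : SLnBN.IsMono ((g⁻¹ : SpG n F) : Matrix (Idx n) (Idx n) F)
        (Equiv.swap (Sum.inl j) (Sum.inr j))⁻¹ := mono_inv hgm (swap_pair_comm_th j)
    have hv' : ((g⁻¹ : SpG n F) : Matrix (Idx n) (Idx n) F) *ᵥ v ∈
        dirSet (borel n F ⊔ weylN n F) := by
      apply ih
      · intro i hi
        rw [mono_mulVec_apply hginv, inv_inv]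
        have hij : i ≠ j := fun e => hj (e ▸ hi)
        rw [Equiv.swap_apply_of_ne_of_ne (by simpa using hij) (by simp),
          h1 i (Finset.mem_insert_of_mem hi), mul_zero]
      · intro i hi
        rw [mono_mulVec_apply hginv, inv_inv]
        by_cases hij : i = j
        · subst hij
          rw [Equiv.swap_apply_right, h1 i (Finset.mem_insert_self _ _), mul_zero]
        · rw [Equiv.swap_apply_of_ne_of_ne (by simp) (by simpa using hij),
            h2 i (fun h => by
              rcases Finset.mem_insert.1 h with h | h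
              · exact hij h
              · exact hi h), mul_zero]
    have := dirSet_mulVec _ hgH hv'
    rwa [mulVec_inv_mulVec] at this

/-- The first half of a vector. -/
def fstPart (v : Idx n → F) : Idx n → F := Sum.elim (fun i => v (Sum.inl i)) (fun _ => 0)

/-- The second half of a vector. -/
def sndPart (v : Idx n → F) : Idx n → F := Sum.elim (fun _ => 0) (fun i => v (Sum.inr i))

theorem fstPart_add_sndPart (v : Idx n → F) : fstPart v + sndPart v = v := by
  funext a
  rcases a with i | i <;> simp [fstPart, sndPart]

theorem fstPart_mem (v : Idx n → F) : fstPart v ∈ dirSet (borel n F ⊔ weylN n F) :=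
  mem_dirSet_of_supp ∅ _ (fun i hi => absurd hi (Finset.notMem_empty i)) (fun i _ => rfl)

theorem mem_dirSet_of_inl_zero (v : Idx n → F) (hv : ∀ i, v (Sum.inl i) = 0) :
    v ∈ dirSet (borel n F ⊔ weylN n F) :=
  mem_dirSet_of_supp Finset.univ _ (fun i _ => hv i) (fun i hi => absurd (Finset.mem_univ i) hi)

theorem sndPart_mem (v : Idx n → F) : sndPart v ∈ dirSet (borel n F ⊔ weylN n F) :=
  mem_dirSet_of_inl_zero _ (fun _ => rfl)

/-- Every vector is a direction of the subgroup generated by `B` and `N`. -/
theorem mem_dirSet_all (v : Idx n → F) : v ∈ dirSet (borel n F ⊔ weylN n F) := by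
  by_cases h0 : Cfsg.sympForm (n + 1) F (fstPart v) (sndPart v) = 0
  · by_cases ha : ∀ i, v (Sum.inl i) = 0
    · exact mem_dirSet_of_inl_zero v ha
    · push_neg at ha
      obtain ⟨i, hi⟩ := ha
      set b' : Idx n → F := Pi.single (Sum.inr i) 1 with hb'
      have hb'mem : b' ∈ dirSet (borel n F ⊔ weylN n F) := by
        apply mem_dirSet_of_inl_zero
        intro k
        rw [hb', Pi.single_apply, if_neg (by simp)]
      have h1 : Cfsg.sympForm (n + 1) F (fstPart v) b' = -v (Sum.inl i) := by
        rw [hb', sympForm_single_inr]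
        rfl
      have h2 : Cfsg.sympForm (n + 1) F (sndPart v) b' = 0 := by
        rw [hb', sympForm_single_inr]
        simp [sndPart]
      have h3 : Cfsg.sympForm (n + 1) F b' (sndPart v) = 0 := by
        rw [sympForm_swap, h2, neg_zero]
      have hne1 : Cfsg.sympForm (n + 1) F (fstPart v) b' ≠ 0 := by
        rw [h1]
        exact neg_ne_zero.2 hi
      have hm1 := dirSet_add_of_ne _ (fstPart_mem v) hb'mem hne1
      have hm2 : sndPart v - b' ∈ dirSet (borel n F ⊔ weylN n F) := by
        apply mem_dirSet_of_inl_zero
        intro k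
        rw [Pi.sub_apply, hb', Pi.single_apply, if_neg (by simp)]
        simp [sndPart]
      have hne2 : Cfsg.sympForm (n + 1) F (fstPart v + b') (sndPart v - b') ≠ 0 := by
        rw [sympForm_sub_right, sympForm_add_left, sympForm_add_left, h0, h3, sympForm_self, h1]
        simpa using hi
      have := dirSet_add_of_ne _ hm1 hm2 hne2
      have e : fstPart v + b' + (sndPart v - b') = v := by
        have e0 : fstPart v + b' + (sndPart v - b') = fstPart v + sndPart v := by abel
        rw [e0, fstPart_add_sndPart]
      rwa [e] at this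
  · have := dirSet_add_of_ne _ (fstPart_mem v) (sndPart_mem v) h0
    rwa [fstPart_add_sndPart] at this

theorem borel_sup_weylN : borel n F ⊔ weylN n F = ⊤ :=
  eq_top_of_dirSet _ mem_dirSet_all

end

end Cfsg.Agent.Lib.Helper5.SpBN
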