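import Mathlib
import Cfsg.Prelude.Def_LieExceptional
import Cfsg.Agent.Lib.Helper5.SpBN.Gen

set_option autoImplicit false

/-!
The `(B, N)`-pair of the symplectic group `Sp_{2(n+1)}(F)`.
-/

namespace Cfsg.Agent.Lib.Helper5.SpBN

open Matrix DoubleCoset

section
variable {n : ℕ} {F : Type*} [Field F]

/-- The `(B, N)`-pair of `Sp_{2(n+1)}(F)`. -/
def bnPair (n : ℕ) (F : Type*) [Field F] : Cfsg.BNPair (SpG n F) where
  B := borel n F
  N := weylN n F
  S := genS n F
  sup_eq_top := borel_sup_weylN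
  conj_mem := by
    intro g hg t ht
    rw [borel_inf_weylN] at ht
    exact torus_le_borel (conj_mem_torus (weylN_le_mono hg) ht)
  subset := genS_subset_weylN
  sq_mem := by
    rintro _ ⟨j, _, rfl⟩
    exact (rootData n F j).s_sq_mem_borel
  inj := by
    rintro _ ⟨j, hj, rfl⟩ _ ⟨j', hj', rfl⟩ h
    rw [nrep_inj hj hj' h]
  closure_sup := by
    rw [borel_inf_weylN]
    rfl
  mul_mem_union := by
    rintro _ ⟨j, _, rfl⟩ g hg b hb
    exact (rootData n F j).s_mul_mem_union (weylN_le_mono hg) hb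
  conj_ne := by
    rintro _ ⟨j, _, rfl⟩
    exact (rootData n F j).s_conj_ne

theorem bnPair_B : (bnPair n F).B = borel n F := rfl

theorem bnPair_N : (bnPair n F).N = weylN n F := rfl

theorem bnPair_S : (bnPair n F).S = genS n F := rfl

theorem nrep_mem_S {j : ℕ} (hj : j < n + 1) : nrep n F j ∈ (bnPair n F).S := ⟨j, hj, rfl⟩

theorem exists_nrep_of_mem_S {s : SpG n F} (hs : s ∈ (bnPair n F).S) :
    ∃ j < n + 1, nrep n F j = s := by
  obtain ⟨j, hj, rfl⟩ := hs
  exact ⟨j, hj, rfl⟩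

end

end Cfsg.Agent.Lib.Helper5.SpBN
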