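import Mathlib
import Cfsg.Agent.Lib.Helper5.SpBN.Pair

set_option autoImplicit false

/-!
The element of the symplectic group interchanging the upper and the lower triangular subgroups.
-/

namespace Cfsg.Agent.Lib.Helper5.SpBN

open Matrix DoubleCoset

section
variable {n : ℕ} {F : Type*} [Field F]

/-- The matrix of the symplectic form as an element of the symplectic group. -/
def n0 (n : ℕ) (F : Type*) [Field F] : SpG n F := SymplecticGroup.symJ (Fin (n + 1)) F

theorem n0_coe : ((n0 n F : SpG n F) : Matrix (Idx n) (Idx n) F) = Matrix.J (Fin (n + 1)) F := rfl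

theorem n0_isMono : SLnBN.IsMono ((n0 n F : SpG n F) : Matrix (Idx n) (Idx n) F) th := by
  intro a b hab
  rw [n0_coe]
  unfold Matrix.J
  rcases a with i | i <;> rcases b with j | j
  · rfl
  · rw [Matrix.fromBlocks_apply₁₂, Matrix.neg_apply, Matrix.one_apply_ne, neg_zero]
    intro e
    apply hab
    rw [e]
    rfl
  · rw [Matrix.fromBlocks_apply₂₁, Matrix.one_apply_ne]
    intro e
    apply hab
    rw [e]
    rfl
  · rfl

theorem th_comm (a : Idx n) : th (th a) = th (th a) := rfl

theorem th_inv : (th : Equiv.Perm (Idx n))⁻¹ = th := by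
  ext a
  rw [Equiv.Perm.inv_def]
  apply th.injective
  rw [Equiv.apply_symm_apply, th_th]

theorem n0_mem_mono : n0 n F ∈ mono n F := ⟨th, n0_isMono, fun _ => rfl⟩

/-- Conjugation by `n0` moves the negative simple root elements into the Borel subgroup. -/
theorem n0_conj_y (R : RootData n F) (c : F) : (n0 n F)⁻¹ * R.y c * n0 n F ∈ borel n F := by
  apply R.conj_y_mem_borel n0_isMono (fun _ => rfl)
  rw [th_inv]
  apply rk_th_lt
  rw [R.rk_b]
  exact Nat.lt_succ_self _

/-- An element of the Borel subgroup is conjugated into the Borel subgroup by `n0` exactly if it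
is diagonal. -/
theorem n0_conj_mem_borel_iff {β : SpG n F} (hβ : β ∈ borel n F) :
    (n0 n F)⁻¹ * β * n0 n F ∈ borel n F ↔ β ∈ torus n F := by
  constructor
  · intro h k l hkl
    have hkl' : k ≠ l := hkl
    rcases lt_or_gt_of_ne (fun e => hkl' (rk_injective e)) with hlt | hgt
    · have h1 : SLnBN.IsMono (((n0 n F)⁻¹ : SpG n F) : Matrix (Idx n) (Idx n) F) th⁻¹ :=
        mono_inv n0_isMono (fun _ => rfl)
      have h2 : SLnBN.IsMono ((n0 n F : SpG n F) : Matrix (Idx n) (Idx n) F) (th⁻¹)⁻¹ := by
        rw [inv_inv]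
        exact n0_isMono
      have h3 := h (i := th⁻¹ k) (j := th⁻¹ l) (by
        rw [th_inv]
        exact rk_th_lt hlt)
      rw [coe_mul', coe_mul', SLnBN.IsMono.conj_apply h1 h2] at h3
      have h4 := mono_apply_ne_zero h1 k
      have h5 := mono_apply_ne_zero h2 (th⁻¹ l)
      rw [inv_inv, th_inv, th_th] at h5
      rcases mul_eq_zero.1 h3 with h | h
      · rcases mul_eq_zero.1 h with h | h
        · exact absurd h h4
        · exact h
      · rw [th_inv] at h
        exact absurd h h5
    · exact hβ hgt
  · intro h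
    have := conj_mem_torus ((mono n F).inv_mem n0_mem_mono) h
    rw [inv_inv] at this
    exact torus_le_borel this

end

end Cfsg.Agent.Lib.Helper5.SpBN
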