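import Mathlib
import Cfsg.Agent.Lib.Helper5.SpBN.Mono

set_option autoImplicit false

/-!
The unitriangular subgroup of the symplectic group over a field of characteristic `p` is a
`p`-group, and the diagonal subgroup has order prime to `p`.
-/

namespace Cfsg.Agent.Lib.Helper5.SpBN

open Matrix

section
variable {n : ℕ} {F : Type*} [Field F]

/-- The entries vanish unless the column index exceeds the row index by at least `k`. -/
def StrictTri (k : ℕ) (M : Matrix (Idx n) (Idx n) F) : Prop :=
  ∀ a b : Idx n, rk b < rk a + k → M a b = 0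

theorem StrictTri.mul {k l : ℕ} {M N : Matrix (Idx n) (Idx n) F} (hM : StrictTri k M)
    (hN : StrictTri l N) : StrictTri (k + l) (M * N) := by
  intro a b hab
  rw [Matrix.mul_apply]
  apply Finset.sum_eq_zero
  intro c _
  by_cases h : rk c < rk a + k
  · rw [hM a c h, zero_mul]
  · rw [hN c b (by omega), mul_zero]

theorem strictTri_one : StrictTri 0 (1 : Matrix (Idx n) (Idx n) F) := by
  intro a b hab
  rw [Matrix.one_apply_ne]
  intro e
  rw [e] at hab
  omega

theorem StrictTri.pow {M : Matrix (Idx n) (Idx n) F} (hM : StrictTri 1 M) (j : ℕ) :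
    StrictTri j (M ^ j) := by
  induction j with
  | zero =>
    rw [pow_zero]
    exact strictTri_one
  | succ j ih =>
    rw [pow_succ]
    exact ih.mul hM

theorem StrictTri.eq_zero {k : ℕ} {M : Matrix (Idx n) (Idx n) F} (hM : StrictTri k M)
    (hk : 2 * n + 2 ≤ k) : M = 0 := by
  ext a b
  rw [Matrix.zero_apply]
  apply hM
  have := rk_lt b
  omega

theorem strictTri_sub_one {u : SpG n F} (hu : u ∈ unip n F) :
    StrictTri 1 ((u : Matrix (Idx n) (Idx n) F) - 1) := by
  intro a b hab
  rw [Matrix.sub_apply]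
  by_cases e : a = b
  · subst e
    rw [hu.2, Matrix.one_apply_eq, sub_self]
  · have : rk b < rk a := by
      have : rk b ≠ rk a := fun h => e (rk_injective h).symm
      omega
    rw [hu.1 this, Matrix.one_apply_ne e, sub_zero]

theorem coe_pow' (g : SpG n F) (k : ℕ) :
    ((g ^ k : SpG n F) : Matrix (Idx n) (Idx n) F) = (g : Matrix (Idx n) (Idx n) F) ^ k := rfl

/-- The unitriangular subgroup is a `p`-group. -/
theorem isPGroup_unip (p : ℕ) [Fact p.Prime] [CharP F p] : IsPGroup p (unip n F) := by
  have hp : p.Prime := Fact.out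
  rintro ⟨u, hu⟩
  refine ⟨2 * n + 2, ?_⟩
  apply Subtype.ext
  apply Subtype.ext
  show ((u ^ p ^ (2 * n + 2) : SpG n F) : Matrix (Idx n) (Idx n) F) = 1
  rw [coe_pow']
  set ν : Matrix (Idx n) (Idx n) F := (u : Matrix (Idx n) (Idx n) F) - 1 with hν
  have e : (u : Matrix (Idx n) (Idx n) F) = 1 + ν := by rw [hν]; abel
  have hlt : 2 * n + 2 < p ^ (2 * n + 2) := Nat.lt_pow_self hp.one_lt
  have h0 : ν ^ p ^ (2 * n + 2) = 0 :=
    ((strictTri_sub_one hu).pow _).eq_zero hlt.le
  rw [e, add_pow_char_pow_of_commute _ _ (Commute.one_left ν), one_pow, h0, add_zero]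

theorem torus_coe_eq_diagonal {t : SpG n F} (ht : t ∈ torus n F) :
    (t : Matrix (Idx n) (Idx n) F)
      = Matrix.diagonal (fun a => (t : Matrix (Idx n) (Idx n) F) a a) := by
  ext a b
  by_cases e : a = b
  · subst e
    rw [Matrix.diagonal_apply_eq]
  · rw [Matrix.diagonal_apply_ne _ e, torus_apply ht e]

/-- The elements of the diagonal subgroup have order dividing `q - 1`. -/
theorem torus_pow_card_sub_one [Fintype F] {t : SpG n F} (ht : t ∈ torus n F) :
    t ^ (Fintype.card F - 1) = 1 := by
  apply Subtype.ext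
  rw [coe_pow', torus_coe_eq_diagonal ht, Matrix.diagonal_pow, coe_one', ← Matrix.diagonal_one]
  congr 1
  funext a
  rw [Pi.pow_apply]
  exact FiniteField.pow_card_sub_one_eq_one _ (borel_diag_ne_zero (torus_le_borel ht) a)

/-- The order of the diagonal subgroup is prime to the characteristic. -/
theorem not_dvd_card_torus [Fintype F] (p : ℕ) [Fact p.Prime] [CharP F p] :
    ¬ p ∣ Nat.card (torus n F) := by
  have hp : p.Prime := Fact.out
  intro hdvd
  obtain ⟨t, ht⟩ := exists_prime_orderOf_dvd_card' p hdvd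
  have h1 : t ^ (Fintype.card F - 1) = 1 := by
    apply Subtype.ext
    exact torus_pow_card_sub_one t.2
  have h2 : p ∣ Fintype.card F - 1 := by
    rw [← ht]
    exact orderOf_dvd_of_pow_eq_one h1
  obtain ⟨⟨f, hf0⟩, -, hF⟩ := FiniteField.card F p
  have hF' : Fintype.card F = p ^ f := hF
  have h3 : p ∣ Fintype.card F := by
    rw [hF']
    exact dvd_pow_self p (Nat.pos_iff_ne_zero.1 hf0)
  have hpos : 0 < Fintype.card F := Fintype.card_pos
  have h4 : p ∣ 1 := by
    have : Fintype.card F = (Fintype.card F - 1) + 1 := by omega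
    rw [this] at h3
    exact (Nat.dvd_add_right h2).1 h3
  exact hp.one_lt.ne' (Nat.dvd_one.1 h4)

end

end Cfsg.Agent.Lib.Helper5.SpBN
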