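import Mathlib
import Cfsg.Prelude.Def_Classical
import Cfsg.Agent.Lib.Helper5.SpBN.Syl
import Cfsg.Agent.Lib.Helper5.SpBN.Opp
import Cfsg.Agent.Lib.Helper5.SpBN.AbsSt

set_option autoImplicit false

/-!
The Steinberg character of the symplectic group and of the projective symplectic group.
-/

namespace Cfsg.Agent.Lib.Helper5.SpBN

open Matrix DoubleCoset

section
variable {n : ℕ} {F : Type*} [Field F]

/-- The Steinberg data of the symplectic group. -/
def spData (n : ℕ) (F : Type*) [Field F] [Fintype F] (p : ℕ) [Fact p.Prime] [CharP F p] :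
    StData (SpG n F) p where
  P := bnPair n F
  r := n + 1
  nrep := nrep n F
  n₀ := n0 n F
  U := unip n F
  T := torus n F
  hn := fun _ hj => nrep_mem_S hj
  hS := fun _ hs => exists_nrep_of_mem_S hs
  hn₀ := fun j _ => ⟨(rootData n F j).y 1, (rootData n F j).y_mem_doubleCoset, n0_conj_y _ 1⟩
  hU := unip_le_borel
  hT := torus_le_borel
  hd := unip_inf_torus
  hB := fun _ hb => exists_unip_mul_torus hb
  hTiff := fun _ hβ => (n0_conj_mem_borel_iff hβ).symm
  hp := isPGroup_unip p
  hidx := not_dvd_index_unip p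

/-- The Steinberg character of the projective symplectic group. -/
theorem exists_steinberg_PSp [Fintype F] (p : ℕ) [Fact p.Prime] [CharP F p] (n : ℕ) :
    ∃ χ : Cfsg.PSp (n + 1) F → ℂ, Cfsg.IsIrrCharacter (Cfsg.PSp (n + 1) F) χ ∧
      ∀ P : Sylow p (Cfsg.PSp (n + 1) F), χ 1 = Nat.card P ∧
        ∀ x : Cfsg.PSp (n + 1) F, x ∈ P → x ≠ 1 → χ x = 0 :=
  StData.exists_steinberg ((spData n F p).map (QuotientGroup.mk' (Subgroup.center (SpG n F)))
    (QuotientGroup.mk'_surjective _) (by rw [QuotientGroup.ker_mk']))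

end

end Cfsg.Agent.Lib.Helper5.SpBN
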